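import Groth.Agent.Flat2G.ProperDim
import Groth.Prelude.Def_AgPol

/-!
# Being an abelian scheme is local on the base

`K841.AbLocal.isAbSch`: an `S`-scheme whose base changes to the members of an open cover are smooth, proper, with
geometrically connected fibres of dimension `g` has the same property.
-/

set_option autoImplicit false
universe u

open CategoryTheory Limits AlgebraicGeometry

namespace K841.AbLocal

/-- A property of morphisms which is local at the target can be checked on the base changes to an open cover. -/
theorem of_cover (P : MorphismProperty Scheme.{u}) [IsZariskiLocalAtTarget P] {T : Scheme.{u}} (A : Over T)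
    {κ : Type u} (U : κ → T.Opens) (hU : (⨆ i, U i) = ⊤) (h : ∀ i, P (Red.bc (U i).ι A).hom) : P A.hom := by
  let 𝒰 : T.OpenCover := T.openCoverOfIsOpenCover U hU
  exact IsZariskiLocalAtTarget.of_openCover 𝒰 h

theorem geometricallyConnected {T : Scheme.{u}} (A : Over T) {κ : Type u} (U : κ → T.Opens)
    (hU : (⨆ i, U i) = ⊤) (h : ∀ i, GeometricallyConnected (Red.bc (U i).ι A).hom) :
    GeometricallyConnected A.hom := by
  rw [GeometricallyConnected.eq_geometrically] at h ⊢
  exact of_cover _ A U hU h

theorem isAbSch {T : Scheme.{u}} (A : Over T) (g : ℕ) {κ : Type u} (U : κ → T.Opens) (hU : (⨆ i, U i) = ⊤)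
    (h : ∀ i, AgPol.IsAbSch (Red.bc (U i).ι A) g) : AgPol.IsAbSch A g := by
  have hs : Smooth A.hom := of_cover @Smooth A U hU fun i => (h i).smooth
  refine ⟨hs, of_cover @IsProper A U hU fun i => (h i).proper,
    geometricallyConnected A U hU fun i => (h i).geomConnected, fun s => ?_⟩
  have hx : s ∈ ⨆ i, U i := by
    rw [hU]
    trivial
  obtain ⟨i, hi⟩ := TopologicalSpace.Opens.mem_iSup.1 hx
  have h1 := Groth.Agent.Flat2G.ProperDim.topologicalKrullDim_fiber_baseChange A.hom (Red.bc (U i).ι A).hom
    (pullback.fst A.hom (U i).ι) (U i).ι (IsPullback.of_hasPullback A.hom (U i).ι) ⟨s, hi⟩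
  rw [(h i).fibreDim] at h1
  exact h1.symm

end K841.AbLocal
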