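import Groth.Agent.AgPol.K399.LevPts

/-!
# Level structures: locality on the base and invariance under isomorphisms
-/

set_option autoImplicit false
universe u

open CategoryTheory Limits MonoidalCategory CartesianMonoidalCategory AlgebraicGeometry
open scoped MonObj

namespace K841.LevLocal

open K399.LevPts

/-- Being a level structure is local on the base. -/
theorem isLevelStr {T : Scheme.{u}} (A : Over T) [GrpObj A] (g n : ℕ) {κ : Type u} (U : κ → T.Opens)
    (hU : (⨆ i, U i) = ⊤) (σ : Fin (2 * g) → (𝟙_ (Over T) ⟶ A))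
    (h : ∀ i, AgPol.IsLevelStr (Red.bc (U i).ι A) g n (fun j => secBc (U i).ι (σ j))) :
    AgPol.IsLevelStr A g n σ := by
  have h' := fun i => (isLevelStr_iff A σ (U i).ι).1 (h i)
  refine ⟨fun j => ?_, fun Ω _ _ t => ?_⟩
  · have key : ∀ i, (U i).ι ≫ (σ j ^ n).left = (U i).ι ≫ (1 : 𝟙_ (Over T) ⟶ A).left := by
      intro i
      have h1 := congrArg (fun t : Over.mk (U i).ι ⟶ A => t.left) ((h' i).1 j)
      simp only [Over.comp_left, Over.toUnit_left] at h1
      exact h1
    ext1
    exact Scheme.Cover.hom_ext (T.openCoverOfIsOpenCover U hU) _ _ key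
  · have hx : t (IsLocalRing.closedPoint Ω) ∈ ⨆ i, U i := by
      rw [hU]
      trivial
    obtain ⟨i, hi⟩ := TopologicalSpace.Opens.mem_iSup.1 hx
    have hr : Set.range t ⊆ Set.range (U i).ι := by
      rw [Scheme.Opens.range_ι]
      rintro _ ⟨y, rfl⟩
      have : y = IsLocalRing.closedPoint Ω := by
        have : Subsingleton (Spec (CommRingCat.of Ω)) := inferInstanceAs (Subsingleton (PrimeSpectrum Ω))
        exact Subsingleton.elim _ _
      rw [this]
      exact hi
    obtain ⟨t', rfl⟩ : ∃ t' : Spec (CommRingCat.of Ω) ⟶ (U i).toScheme, t' ≫ (U i).ι = t :=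
      ⟨IsOpenImmersion.lift (U i).ι t hr, IsOpenImmersion.lift_fac _ _ _⟩
    exact (h' i).2 Ω t'

section iso

variable {T : Scheme.{u}} {A B : Over T} [GrpObj A] [GrpObj B] (e : A ≅ B) [IsMonHom e.hom]

/-- Composition with an isomorphism of group schemes. -/
noncomputable def congr (W : Over T) : (W ⟶ A) ≃* (W ⟶ B) where
  toFun x := x ≫ e.hom
  invFun y := y ≫ e.inv
  left_inv x := by simp
  right_inv y := by simp
  map_mul' x y := MonObj.mul_comp x y e.hom

/-- Level structures are invariant under isomorphisms. -/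
theorem isLevelStr_iso (g n : ℕ) (σ : Fin (2 * g) → (𝟙_ (Over T) ⟶ A)) (h : AgPol.IsLevelStr A g n σ) :
    AgPol.IsLevelStr B g n (fun j => σ j ≫ e.hom) := by
  refine ⟨fun j => ?_, fun Ω _ _ t => ⟨?_, ?_⟩⟩
  · have h1 := map_pow (congr e (𝟙_ (Over T))) (σ j) n
    rw [h.1 j, map_one] at h1
    exact h1.symm
  · have h1 := (transport (n := n) (congr e (Over.mk t)) (fun i => toUnit (Over.mk t) ≫ σ i)).2 (h.2 Ω t).1
    have h2 : (fun i => toUnit (Over.mk t) ≫ σ i ≫ e.hom) =
        fun i => congr e (Over.mk t) (toUnit (Over.mk t) ≫ σ i) :=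
      funext fun i => (Category.assoc _ _ _).symm
    rw [h2]
    exact h1
  · exact (card_transport (congr e (Over.mk t)) n).trans (h.2 Ω t).2

end iso

end K841.LevLocal
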