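import Groth.Agent.AgPol.K540.LawNodes
import Groth.Agent.AgPol.K841.AbLocal
import Groth.Agent.AgPol.K841.LevLocal

/-!
# The nodes `AbLocal`, `LevLocal`, `LevIso` of the laws of the moduli problem
-/

set_option autoImplicit false
universe u

open CategoryTheory Limits MonoidalCategory CartesianMonoidalCategory AlgebraicGeometry

namespace K841.LawLocal

theorem abLocal : K540.Ag.Node.AbLocal.{u} := fun _ A _ g _ U hU h => K841.AbLocal.isAbSch A g U hU h

theorem levLocal : K540.Ag.Node.LevLocal.{u} := fun _ A _ g n _ U hU σ h =>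
  K841.LevLocal.isLevelStr A g n U hU σ h

theorem levIso : K540.Ag.Node.LevIso.{u} := fun _ _ _ _ _ g n e _ σ h =>
  K841.LevLocal.isLevelStr_iso e g n σ h

end K841.LawLocal
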